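import Groth.Agent.CohBase.MV

/-!
# Mayer–Vietoris in degree one: restrictions jointly onto the intersection
-/

set_option autoImplicit false
set_option backward.isDefEq.respectTransparency false
set_option backward.defeqAttrib.useBackward true

universe u

open CategoryTheory CategoryTheory.Limits Opposite TopologicalSpace Abelian

namespace Groth.Agent.BlowSurfLib

open CohBase

variable {X : Type u} [TopologicalSpace X]

/-- Restricting a section, seen as a map from a free sheaf. -/
theorem secEquiv_comp_left {U U' : Opens X} (i : U' ⟶ U) {F : AbSh X} (φ : freeAb U ⟶ F) :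
    secEquiv U' F ((presheafToSheaf (Opens.grothendieckTopology X) AddCommGrpCat.{u}).map
      (Functor.whiskerRight (yoneda.map i) AddCommGrpCat.free) ≫ φ) = F.obj.map i.op (secEquiv U F φ) := by
  rw [secEquiv_apply, secEquiv_apply]
  let J := Opens.grothendieckTopology X
  let g : freePre U' ⟶ freePre U := Functor.whiskerRight (yoneda.map i) AddCommGrpCat.free
  let η := (toSheafify J (freePre U)).app
  have e1 : ((presheafToSheaf J AddCommGrpCat.{u}).map g).hom.app (op U')
      ((toSheafify J (freePre U')).app (op U') (FreeAbelianGroup.of (𝟙 U'))) =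
      η (op U') (g.app (op U') (FreeAbelianGroup.of (𝟙 U'))) :=
    (ConcreteCategory.congr_hom (NatTrans.congr_app (toSheafify_naturality J g) (op U')) (FreeAbelianGroup.of (𝟙 U'))).symm
  refine (congrArg (φ.hom.app (op U')) e1).trans ?_
  have e2 : g.app (op U') (FreeAbelianGroup.of (𝟙 U')) = (freePre U).map i.op (FreeAbelianGroup.of (𝟙 U)) := by
    change FreeAbelianGroup.map _ (FreeAbelianGroup.of (𝟙 U')) = FreeAbelianGroup.map _ (FreeAbelianGroup.of (𝟙 U))
    rw [FreeAbelianGroup.map_of_apply, FreeAbelianGroup.map_of_apply]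
    rfl
  rw [e2]
  exact ConcreteCategory.congr_hom ((toSheafify J (freePre U) ≫ φ.hom).naturality i.op) (FreeAbelianGroup.of (𝟙 U))

/-- If the difference of the restrictions is onto, `H¹` of a union of two acyclic opens vanishes. -/
theorem subsingleton_HU_one_sup (F : AbSh X) (U V : Opens X) [Subsingleton (HU U F 1)] [Subsingleton (HU V F 1)]
    (h : ∀ s : F.obj.obj (op (U ⊓ V)), ∃ (a : F.obj.obj (op U)) (b : F.obj.obj (op V)),
      F.obj.map (homOfLE (inf_le_left : U ⊓ V ≤ U)).op a - F.obj.map (homOfLE (inf_le_right : U ⊓ V ≤ V)).op b = s) :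
    Subsingleton (HU (U ⊔ V) F 1) := by
  refine subsingleton_of_forall_eq 0 fun x => ?_
  let S := Opens.mayerVietorisSquare U V
  have hS := S.shortComplex_shortExact
  have h0 : (Ext.mk₀ S.shortComplex.g).comp (show Ext S.shortComplex.X₃ F 1 from x) (zero_add _) = 0 :=
    Ext.biprod_ext (@Subsingleton.elim (HU U F 1) _ _ _) (@Subsingleton.elim (HU V F 1) _ _ _)
  obtain ⟨y, hy⟩ := Ext.contravariant_sequence_exact₃ hS F
    (show Ext S.shortComplex.X₃ F 1 from x) h0 (n₀ := 0) rfl
  obtain ⟨φ, rfl⟩ := Ext.addEquiv₀.symm.surjective y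
  obtain ⟨a, b, hab⟩ := h (secEquiv (U ⊓ V) F φ)
  let P := presheafToSheaf (Opens.grothendieckTopology X) AddCommGrpCat.{u}
  let pu : freeAb (U ⊓ V) ⟶ freeAb U := P.map (Functor.whiskerRight (yoneda.map (homOfLE inf_le_left)) AddCommGrpCat.free)
  let pv : freeAb (U ⊓ V) ⟶ freeAb V := P.map (Functor.whiskerRight (yoneda.map (homOfLE inf_le_right)) AddCommGrpCat.free)
  let α : freeAb U ⟶ F := (secEquiv U F).symm a
  let β : freeAb V ⟶ F := (secEquiv V F).symm b
  have key : (φ : freeAb (U ⊓ V) ⟶ F) = pu ≫ α - pv ≫ β := by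
    apply (secEquiv (U ⊓ V) F).injective
    rw [map_sub, secEquiv_comp_left, secEquiv_comp_left, AddEquiv.apply_symm_apply, AddEquiv.apply_symm_apply]
    exact hab.symm
  have hφ : φ = S.shortComplex.f ≫ biprod.desc α β := by
    refine key.trans ?_
    show pu ≫ α - pv ≫ β = biprod.lift pu (-pv) ≫ biprod.desc α β
    rw [biprod.lift_desc, Preadditive.neg_comp, sub_eq_add_neg]
  rw [← hy, hφ, Ext.addEquiv₀_symm_apply, ← Ext.mk₀_comp_mk₀, ← Ext.comp_assoc_of_second_deg_zero,
    ShortComplex.ShortExact.extClass_comp, Ext.zero_comp]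

end Groth.Agent.BlowSurfLib
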