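import Groth.Agent.BlowExistsLib.Proper

/-!
# The two charts of a blow-up in a two-generated ideal
-/

set_option autoImplicit false
set_option backward.isDefEq.respectTransparency false
set_option backward.isDefEq.respectTransparency.types false
set_option backward.defeqAttrib.useBackward true
set_option linter.style.haveILetI false
set_option maxHeartbeats 800000

universe u

open CategoryTheory CategoryTheory.Limits AlgebraicGeometry

namespace Groth.Agent.BlowSurfLib

open BlowChartLib BlowExistsLib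

variable {S X : Scheme.{u}} {𝓘 : S.IdealSheafData} {b : X ⟶ S} (hb : BlowUp.IsBlowUp b 𝓘)
variable {U : S.affineOpens} {a c : Γ(S, U.1)}

/-- The chart as an open of the blow-up. -/
noncomputable abbrev chart (ha : a ∈ 𝓘.ideal U) : X.Opens := emb hb ha ''ᵁ ⊤

theorem chart_eq (ha : a ∈ 𝓘.ideal U) : chart hb ha = chartOpen 𝓘 U a b := by
  rw [chart, Scheme.Hom.image_top_eq_opensRange, opensRange_emb hb ha]

theorem chart_le (ha : a ∈ 𝓘.ideal U) : chart hb ha ≤ b ⁻¹ᵁ U.1 :=
  (chart_eq hb ha).trans_le (chartOpen_le_preimage b)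

/-- The chart algebra is the ring of sections of the chart. -/
noncomputable def rho (ha : a ∈ 𝓘.ideal U) : ChartAlg 𝓘 U a →+* Γ(X, chart hb ha) :=
  ((emb hb ha).appIso ⊤).inv.hom.comp (Scheme.ΓSpecIso (CommRingCat.of (ChartAlg 𝓘 U a))).inv.hom

theorem rho_bijective (ha : a ∈ 𝓘.ideal U) : Function.Bijective (rho hb ha) :=
  (ConcreteCategory.bijective_of_isIso ((emb hb ha).appIso ⊤).inv).comp
    (ConcreteCategory.bijective_of_isIso (Scheme.ΓSpecIso (CommRingCat.of (ChartAlg 𝓘 U a))).inv)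

theorem rho_alg (ha : a ∈ 𝓘.ideal U) (r : Γ(S, U.1)) :
    rho hb ha (algebraMap Γ(S, U.1) _ r) = (b.appLE U.1 (chart hb ha) (chart_le hb ha)).hom r := by
  show ((emb hb ha).appIso ⊤).inv.hom ((Scheme.ΓSpecIso (CommRingCat.of (ChartAlg 𝓘 U a))).inv.hom (algebraMap Γ(S, U.1) _ r)) = _
  rw [← appLE_chartMap]
  apply (ConcreteCategory.bijective_of_isIso ((emb hb ha).appIso ⊤).hom).1
  rw [← ConcreteCategory.comp_apply ((emb hb ha).appIso ⊤).inv ((emb hb ha).appIso ⊤).hom, Iso.inv_hom_id]
  show ((chartMap 𝓘 U a).appLE U.1 ⊤ _).hom r = (b.appLE U.1 (chart hb ha) _ ≫ ((emb hb ha).appIso ⊤).hom).hom r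
  rw [Scheme.Hom.appIso_hom', Scheme.Hom.appLE_comp_appLE]
  simp only [emb_comp]

variable (ha : a ∈ 𝓘.ideal U) (hc : c ∈ 𝓘.ideal U)

/-- The common part of the two charts. -/
noncomputable abbrev both : X.Opens := chart hb ha ⊓ chart hb hc

theorem both_eq : both hb ha hc = X.basicOpen (rho hb ha (frac c hc)) := by
  show chart hb ha ⊓ chart hb hc = X.basicOpen (((emb hb ha).appIso ⊤).inv.hom _)
  rw [← Scheme.image_basicOpen, chart_eq, chart_eq, inf_chartOpen hb ha hc, basicOpen_eq_of_affine']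
  congr 1
  rw [← ConcreteCategory.comp_apply (Scheme.ΓSpecIso (CommRingCat.of (ChartAlg 𝓘 U a))).inv
    (Scheme.ΓSpecIso (CommRingCat.of (ChartAlg 𝓘 U a))).hom, Iso.inv_hom_id]
  rfl

/-- The base sections on the common part. -/
noncomputable def psi : Γ(S, U.1) →+* Γ(X, both hb ha hc) :=
  (b.appLE U.1 (both hb ha hc) (inf_le_left.trans (chart_le hb ha))).hom

/-- Restriction from the first chart. -/
noncomputable def fstRes : ChartAlg 𝓘 U a →+* Γ(X, both hb ha hc) :=
  (X.presheaf.map (homOfLE (inf_le_left : both hb ha hc ≤ chart hb ha)).op).hom.comp (rho hb ha)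

/-- Restriction from the second chart. -/
noncomputable def sndRes : ChartAlg 𝓘 U c →+* Γ(X, both hb ha hc) :=
  (X.presheaf.map (homOfLE (inf_le_right : both hb ha hc ≤ chart hb hc)).op).hom.comp (rho hb hc)

theorem fstRes_alg (r : Γ(S, U.1)) : fstRes hb ha hc (algebraMap Γ(S, U.1) _ r) = psi hb ha hc r := by
  show (X.presheaf.map _).hom (rho hb ha _) = _
  rw [rho_alg]
  exact ConcreteCategory.congr_hom (b.appLE_map (chart_le hb ha) (homOfLE (inf_le_left : both hb ha hc ≤ chart hb ha)).op) r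

theorem sndRes_alg (r : Γ(S, U.1)) : sndRes hb ha hc (algebraMap Γ(S, U.1) _ r) = psi hb ha hc r := by
  show (X.presheaf.map _).hom (rho hb hc _) = _
  rw [rho_alg]
  exact ConcreteCategory.congr_hom (b.appLE_map (chart_le hb hc) (homOfLE (inf_le_right : both hb ha hc ≤ chart hb hc)).op) r

/-- The common part is the first chart with the fraction inverted. -/
theorem exists_fst_div (z : Γ(X, both hb ha hc)) :
    ∃ (n : ℕ) (w : ChartAlg 𝓘 U a), z * fstRes hb ha hc (frac c hc) ^ n = fstRes hb ha hc w := by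
  let f := rho hb ha (frac c hc)
  letI : Algebra Γ(X, chart hb ha) Γ(X, both hb ha hc) :=
    (X.presheaf.map (homOfLE (inf_le_left : both hb ha hc ≤ chart hb ha)).op).hom.toAlgebra
  haveI : IsLocalization.Away f Γ(X, both hb ha hc) :=
    IsAffineOpen.isLocalization_of_eq_basicOpen ((isAffineOpen_top _).image_of_isOpenImmersion (emb hb ha)) f
      (homOfLE inf_le_left) (both_eq hb ha hc)
  obtain ⟨n, w, hw⟩ := IsLocalization.Away.surj f z
  obtain ⟨w, rfl⟩ := (rho_bijective hb ha).2 w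
  exact ⟨n, w, hw⟩

theorem psi_nonZeroDivisor : psi hb ha hc a ∈ nonZeroDivisors Γ(X, both hb ha hc) := by
  let f := rho hb ha (frac c hc)
  letI : Algebra Γ(X, chart hb ha) Γ(X, both hb ha hc) :=
    (X.presheaf.map (homOfLE (inf_le_left : both hb ha hc ≤ chart hb ha)).op).hom.toAlgebra
  haveI : IsLocalization.Away f Γ(X, both hb ha hc) :=
    IsAffineOpen.isLocalization_of_eq_basicOpen ((isAffineOpen_top _).image_of_isOpenImmersion (emb hb ha)) f
      (homOfLE inf_le_left) (both_eq hb ha hc)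
  rw [← fstRes_alg]
  refine IsLocalization.map_nonZeroDivisors_le (Submonoid.powers f) Γ(X, both hb ha hc)
    ⟨rho hb ha (algebraMap Γ(S, U.1) _ a), ?_, rfl⟩
  exact MulEquivClass.map_nonZeroDivisors (RingEquiv.ofBijective (rho hb ha) (rho_bijective hb ha)) ▸
    ⟨_, BlowChartLib.mem_nonZeroDivisors, rfl⟩

theorem fst_mul_snd : fstRes hb ha hc (frac c hc) * sndRes hb ha hc (frac a ha) = 1 := by
  have h1 : fstRes hb ha hc (frac c hc) * psi hb ha hc a = psi hb ha hc c := by
    rw [← fstRes_alg, ← map_mul, frac_mul, fstRes_alg]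
  have h2 : sndRes hb ha hc (frac a ha) * psi hb ha hc c = psi hb ha hc a := by
    rw [← sndRes_alg, ← map_mul, frac_mul, sndRes_alg]
  refine (mul_cancel_right_mem_nonZeroDivisors (psi_nonZeroDivisor hb ha hc)).1 ?_
  rw [one_mul, mul_comm (fstRes hb ha hc _), mul_assoc, h1, h2]

/-- Every section on the common part is a sum of sections from the two charts. -/
theorem exists_add (hI : 𝓘.ideal U = Ideal.span {a, c}) (z : Γ(X, both hb ha hc)) :
    ∃ (p : Γ(X, chart hb ha)) (q : Γ(X, chart hb hc)),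
      (X.presheaf.map (homOfLE (inf_le_left : both hb ha hc ≤ chart hb ha)).op).hom p +
        (X.presheaf.map (homOfLE (inf_le_right : both hb ha hc ≤ chart hb hc)).op).hom q = z := by
  let T : AddSubgroup Γ(X, both hb ha hc) :=
    (fstRes hb ha hc).range.toAddSubgroup ⊔ (sndRes hb ha hc).range.toAddSubgroup
  have hgen : ∀ w : ChartAlg 𝓘 U a, w ∈ Algebra.adjoin Γ(S, U.1) ({frac c hc} : Set (ChartAlg 𝓘 U a)) := by
    intro w
    refine induction_frac (P := fun w : ChartAlg 𝓘 U a => w ∈ Algebra.adjoin Γ(S, U.1) ({frac c hc} : Set (ChartAlg 𝓘 U a)))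
      (fun r => Subalgebra.algebraMap_mem _ r) (fun x hx => ?_) (fun x y hx hy => add_mem hx hy) (fun x y hx hy => mul_mem hx hy) w
    obtain ⟨α, β, hαβ⟩ := Ideal.mem_span_pair.1 (hI.le hx)
    rw [frac_linear (a := a) ![α, β] ![a, c] (fun i => by fin_cases i <;> simpa) x hx (by simpa [Fin.sum_univ_two] using hαβ),
      Fin.sum_univ_two]
    refine add_mem (mul_mem (Subalgebra.algebraMap_mem _ _) ?_) (mul_mem (Subalgebra.algebraMap_mem _ _) ?_)
    · show frac (a := a) a _ ∈ _
      rw [frac_self]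
      exact one_mem _
    · exact Algebra.subset_adjoin rfl
  set u := fstRes hb ha hc (frac c hc) with hu
  set v := sndRes hb ha hc (frac a ha) with hv
  have huv : u * v = 1 := fst_mul_snd hb ha hc
  have hT : ∀ (w : ChartAlg 𝓘 U a) (n : ℕ), fstRes hb ha hc w * v ^ n ∈ T := by
    intro w n
    obtain ⟨P, hP⟩ := Algebra.adjoin_singleton_eq_range_aeval Γ(S, U.1) (frac (a := a) c hc) ▸ hgen w
    rw [← hP]
    clear hP w
    induction P using Polynomial.induction_on' with
    | add P Q hP hQ =>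
      rw [AlgHom.toRingHom_eq_coe, RingHom.coe_coe] at hP hQ ⊢
      rw [map_add, map_add, add_mul]
      exact add_mem hP hQ
    | monomial j r =>
      rw [AlgHom.toRingHom_eq_coe, RingHom.coe_coe, Polynomial.aeval_monomial, map_mul, map_pow, ← hu, mul_assoc]
      rcases le_total n j with h | h
      · obtain ⟨k, rfl⟩ := Nat.exists_eq_add_of_le h
        rw [pow_add, mul_comm (u ^ n), mul_assoc (u ^ k), ← mul_pow, huv, one_pow, mul_one]
        refine AddSubgroup.mem_sup_left ⟨algebraMap Γ(S, U.1) _ r * frac c hc ^ k, ?_⟩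
        rw [map_mul, map_pow, hu]
      · obtain ⟨k, rfl⟩ := Nat.exists_eq_add_of_le h
        rw [pow_add, ← mul_assoc (u ^ j), ← mul_pow, huv, one_pow, one_mul, fstRes_alg]
        refine AddSubgroup.mem_sup_right ⟨algebraMap Γ(S, U.1) _ r * frac a ha ^ k, ?_⟩
        rw [map_mul, map_pow, sndRes_alg, hv]
  obtain ⟨n, w, hw⟩ := exists_fst_div hb ha hc z
  have hz : z = fstRes hb ha hc w * v ^ n := by
    rw [← hw, mul_assoc, ← mul_pow, huv, one_pow, mul_one]
  obtain ⟨_, ⟨p, rfl⟩, _, ⟨q, rfl⟩, hpq⟩ := AddSubgroup.mem_sup.1 (hz ▸ hT w n)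
  exact ⟨rho hb ha p, rho hb hc q, hpq⟩

end Groth.Agent.BlowSurfLib
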